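import Cfsg.Agent.SporB.ON.Sub.M11.Data

set_option autoImplicit false
set_option maxRecDepth 100000

namespace Cfsg.Agent.CosetEnum.ON.Sub.M11

theorem ok16 : sylowOK X P16 C16 = true := by decide +kernel

theorem ok9 : sylowOK X P9 C9 = true := by decide +kernel

theorem ok5 : sylowOK X P5 C5 = true := by decide +kernel

theorem ok11 : sylowOK X P11 C11 = true := by decide +kernel

end Cfsg.Agent.CosetEnum.ON.Sub.M11
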