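import Cfsg.Agent.SporB.ON.Sub.M11.Data

set_option autoImplicit false
set_option maxRecDepth 100000

namespace Cfsg.Agent.CosetEnum.ON.Sub.M11

theorem tr_0 : allRange (checkCoset X R Lk tr) 0 12 = true := by decide +kernel

theorem tr_all : ∀ i, i < R.length → checkCoset X R Lk tr i = true := by
  intro i hi
  have hn : R.length = 12 := by decide +kernel
  exact allRange_spec tr_0 i (by omega) (by omega)

end Cfsg.Agent.CosetEnum.ON.Sub.M11
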